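import Groth.Agent.HilbPoly.Snapper
import Groth.Agent.CurveDeg.Linear

/-!
# Polynomial bounds for the cohomology of twists

For a family `T` of invertible modules on a proper scheme with `T (a + e_j) ≅ T a ⊗ L j`, `h^i(F ⊗ T a)` is
`O((1 + |a|) ^ dim Supp F)`, and on an integral scheme `h^i(T a)` is Lipschitz with constant `O((1+|a|)^(n-1))`.
-/

universe u

open CategoryTheory CategoryTheory.Limits AlgebraicGeometry Opposite TopologicalSpace
open scoped Groth.Agent.CohVanish

set_option autoImplicit false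
set_option backward.isDefEq.respectTransparency false
set_option maxHeartbeats 1600000

namespace Groth.Agent.AsympCoh

open InvBasic ProjUniv Groth.Agent.InvPow Groth.Agent.QCohLib Groth.Agent.HilbPoly Groth.Agent.CurveDeg Groth.Agent.CohFinite Groth.Agent.CechCmp Groth.Agent.CohVanish

variable {X : Scheme.{u}} (k : Type u) [Field k] [X.Over (Spec (CommRingCat.of k))]
  [IsProper (X ↘ Spec (CommRingCat.of k))]

/-- `h^(i-1)`, zero for `i = 0`. -/
noncomputable def hprev (M : X.Modules) : ℕ → ℤ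
  | 0 => 0
  | i + 1 => hdim k X M i

theorem hdim_nonneg (M : X.Modules) (i : ℕ) : 0 ≤ hdim k X M i := Int.natCast_nonneg _

theorem hprev_nonneg (M : X.Modules) : ∀ i, 0 ≤ hprev k M i
  | 0 => le_rfl
  | i + 1 => hdim_nonneg k M i

theorem hdim_of_isZero {M : X.Modules} (h : IsZero M) (i : ℕ) : hdim k X M i = 0 :=
  hdim_eq_zero (subsingleton_HH_of_isZero h i)

/-- The bounds of the long exact sequence. -/
theorem hdim_exact {S : ShortComplex X.Modules} (hS : S.ShortExact) (h₁ : Coh.IsCoh S.X₁)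
    (h₂ : Coh.IsCoh S.X₂) (h₃ : Coh.IsCoh S.X₃) (i : ℕ) :
    hdim k X S.X₂ i ≤ hdim k X S.X₁ i + hdim k X S.X₃ i ∧
      hdim k X S.X₁ i ≤ hdim k X S.X₂ i + hprev k S.X₃ i ∧
      hdim k X S.X₃ i ≤ hdim k X S.X₂ i + hdim k X S.X₁ (i + 1) := by
  let φ := Coh.toGlobal (X ↘ Spec (CommRingCat.of k))
  let T := modSES φ S hS
  let f := fun p => mapHMod T.f ⊤ p
  let g := fun p => mapHMod T.g ⊤ p
  let δ := fun p => T.delta ⊤ p
  have fin : ∀ {M : X.Modules}, Coh.IsCoh M → ∀ p, Module.Finite k (HMod (modRSh φ M) ⊤ p) :=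
    fun hM p => allFin_of_isProper (X ↘ Spec (CommRingCat.of k)) _ hM p
  have hd : ∀ (M : X.Modules) p, hdim k X M p = Module.finrank k (HMod (modRSh φ M) ⊤ p) := fun M p => by
    unfold hdim
    rw [(hhEquiv M p).finrank_eq]
  have : ∀ p, Module.Finite k (HMod T.X₁ ⊤ p) := fin h₁
  have : ∀ p, Module.Finite k (HMod T.X₂ ⊤ p) := fin h₂
  have : ∀ p, Module.Finite k (HMod T.X₃ ⊤ p) := fin h₃
  have e1 : ∀ p, LinearMap.ker (g p) = LinearMap.range (f p) := fun p => by
    ext x
    refine ⟨fun hx => (eMap_g_eq_zero_iff (S := T.sc) T.shortExact ⊤ p x).1 hx, ?_⟩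
    rintro ⟨y, rfl⟩
    exact (eMap_g_eq_zero_iff (S := T.sc) T.shortExact ⊤ p _).2 ⟨y, rfl⟩
  have e2 : ∀ p, LinearMap.ker (δ p) = LinearMap.range (g p) := fun p => by
    ext x
    refine ⟨fun hx => (eDelta_eq_zero_iff (S := T.sc) T.shortExact ⊤ p x).1 hx, ?_⟩
    rintro ⟨y, rfl⟩
    exact (eDelta_eq_zero_iff (S := T.sc) T.shortExact ⊤ p _).2 ⟨y, rfl⟩
  have e3 : ∀ p, LinearMap.ker (f (p + 1)) = LinearMap.range (δ p) := fun p => by
    ext x
    refine ⟨fun hx => (eMap_f_eq_zero_iff (S := T.sc) T.shortExact ⊤ p x).1 hx, ?_⟩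
    rintro ⟨y, rfl⟩
    exact (eMap_f_eq_zero_iff (S := T.sc) T.shortExact ⊤ p _).2 ⟨y, rfl⟩
  have r1 := (f i).finrank_range_add_finrank_ker
  have r2 := (g i).finrank_range_add_finrank_ker
  have r3 := (δ i).finrank_range_add_finrank_ker
  rw [e1] at r2
  rw [e2] at r3
  have s1 := Submodule.finrank_le (LinearMap.range (g i))
  have s2 := Submodule.finrank_le (LinearMap.range (f i))
  have s3 := Submodule.finrank_le (LinearMap.range (δ i))
  rw [hd, hd, hd, hd]
  refine ⟨?_, ?_, ?_⟩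
  · change (Module.finrank k (HMod T.X₂ ⊤ i) : ℤ) ≤ Module.finrank k (HMod T.X₁ ⊤ i) + Module.finrank k (HMod T.X₃ ⊤ i)
    omega
  · change (Module.finrank k (HMod T.X₁ ⊤ i) : ℤ) ≤ Module.finrank k (HMod T.X₂ ⊤ i) + _
    cases i with
    | zero =>
      have hinj : Function.Injective (f 0) := eMap_injective_of_mono T.shortExact.mono_f ⊤
      rw [LinearMap.ker_eq_bot.mpr hinj, finrank_bot] at r1
      simp only [hprev]
      omega
    | succ p =>
      rw [e3] at r1
      have r4 := (δ p).finrank_range_add_finrank_ker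
      show _ ≤ _ + hdim k X S.X₃ p
      rw [hd]
      change (Module.finrank k (HMod T.X₁ ⊤ (p + 1)) : ℤ) ≤
        Module.finrank k (HMod T.X₂ ⊤ (p + 1)) + Module.finrank k (HMod T.X₃ ⊤ p)
      omega
  · change (Module.finrank k (HMod T.X₃ ⊤ i) : ℤ) ≤
      Module.finrank k (HMod T.X₂ ⊤ i) + Module.finrank k (HMod T.X₁ ⊤ (i + 1))
    omega

/-- The bound function: `0` for `d = 0`, else `(1 + s)^(d - 1)`. -/
noncomputable def bnd : ℕ → ℕ → ℝ
  | 0, _ => 0
  | d + 1, s => (1 + (s : ℝ)) ^ d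

theorem bnd_nonneg : ∀ d s, 0 ≤ bnd d s
  | 0, _ => le_rfl
  | d + 1, s => pow_nonneg (by positivity) d

theorem bnd_mono : ∀ (d : ℕ) {s t : ℕ}, s ≤ t → bnd d s ≤ bnd d t
  | 0, _, _, _ => le_rfl
  | d + 1, s, t, h => pow_le_pow_left₀ (by positivity) (by exact_mod_cast Nat.add_le_add_left h 1) d

theorem mul_bnd_le : ∀ (d s : ℕ), (s : ℝ) * bnd d s ≤ bnd (d + 1) s
  | 0, s => by simp [bnd]
  | d + 1, s => by
    simp only [bnd]
    rw [pow_succ' _ d]
    exact mul_le_mul_of_nonneg_right (by linarith) (pow_nonneg (by positivity) d)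

section calculus

variable {ι : Type} [Fintype ι] [DecidableEq ι]

/-- The size of an exponent vector. -/
def size (a : ι → ℕ) : ℕ := ∑ j, a j

/-- `h` grows at most like `bnd d` at each unit step. -/
def StepBound (d : ℕ) (C : ℝ) (h : (ι → ℕ) → ℝ) : Prop :=
  ∀ (a : ι → ℕ) (j : ι), |h (a + Pi.single j 1) - h a| ≤ C * bnd d (size a)

theorem size_add_single (a : ι → ℕ) (j : ι) : size (a + Pi.single j 1) = size a + 1 := by
  simp [size, Finset.sum_add_distrib, Pi.single_apply]

theorem abs_sub_le_of_le {d : ℕ} {C : ℝ} (hC : 0 ≤ C) {h : (ι → ℕ) → ℝ} (hh : StepBound d C h) :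
    ∀ (t : ℕ) (a c : ι → ℕ), a ≤ c → size c = size a + t → |h c - h a| ≤ C * t * bnd d (size c) := by
  intro t
  induction t with
  | zero =>
    intro a c hac hs
    have : a = c := funext fun j => by
      by_contra hne
      have : size a < size c :=
        Finset.sum_lt_sum (fun i _ => hac i) ⟨j, Finset.mem_univ j, lt_of_le_of_ne (hac j) hne⟩
      omega
    simp [this]
  | succ t ih =>
    intro a c hac hs
    obtain ⟨j, hj⟩ : ∃ j, a j < c j := by
      by_contra hne
      push Not at hne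
      have : size c ≤ size a := Finset.sum_le_sum fun i _ => hne i
      omega
    let b := c - Pi.single j 1
    have hb : b + Pi.single j 1 = c := funext fun i => by
      by_cases hi : i = j
      · subst hi; simp [b]; omega
      · simp [b, hi]
    have hab : a ≤ b := fun i => by
      by_cases hi : i = j
      · subst hi; simp [b]; omega
      · simp [b, hi]; exact hac i
    have hsb := size_add_single b j
    rw [hb] at hsb
    have h1 := ih a b hab (by omega)
    have h2 := hh b j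
    rw [hb] at h2
    have h3 := bnd_mono d (show size b ≤ size c by omega)
    have h4 : |h c - h a| ≤ |h c - h b| + |h b - h a| := by
      rw [show h c - h a = (h c - h b) + (h b - h a) by ring]
      exact abs_add_le _ _
    push_cast
    nlinarith [mul_le_mul_of_nonneg_left h3 hC, mul_le_mul_of_nonneg_left h3
      (mul_nonneg hC (Nat.cast_nonneg t)), h1, h2, h4]

theorem abs_sub_le {d : ℕ} {C : ℝ} (hC : 0 ≤ C) {h : (ι → ℕ) → ℝ} (hh : StepBound d C h) (a b : ι → ℕ) :
    |h a - h b| ≤ C * (∑ j, (max (a j) (b j) - min (a j) (b j) : ℕ)) * bnd d (size a + size b) := by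
  let c := a ⊔ b
  have ha : a ≤ c := le_sup_left
  have hb : b ≤ c := le_sup_right
  have hsa : size a ≤ size c := Finset.sum_le_sum fun i _ => ha i
  have hsb : size b ≤ size c := Finset.sum_le_sum fun i _ => hb i
  have hsc : size c ≤ size a + size b := by
    rw [size, size, size, ← Finset.sum_add_distrib]
    exact Finset.sum_le_sum fun i _ => by simp only [c, Pi.sup_apply]; omega
  have heq : (size c - size a) + (size c - size b) = ∑ j, (max (a j) (b j) - min (a j) (b j)) := by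
    have e1 : size c - size a = ∑ j, (c j - a j) := (Finset.sum_tsub_distrib _ fun i _ => ha i).symm
    have e2 : size c - size b = ∑ j, (c j - b j) := (Finset.sum_tsub_distrib _ fun i _ => hb i).symm
    rw [e1, e2, ← Finset.sum_add_distrib]
    exact Finset.sum_congr rfl fun i _ => by simp only [c, Pi.sup_apply]; omega
  have h1 := abs_sub_le_of_le hC hh (size c - size a) a c ha (by omega)
  have h2 := abs_sub_le_of_le hC hh (size c - size b) b c hb (by omega)
  have h3 := bnd_mono d hsc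
  have h4 : |h a - h b| ≤ |h c - h a| + |h c - h b| := by
    rw [show h a - h b = -(h c - h a) + (h c - h b) by ring]
    exact (abs_add_le _ _).trans (by rw [abs_neg])
  rw [← heq, Nat.cast_add]
  refine h4.trans ((add_le_add h1 h2).trans ?_)
  rw [mul_add, add_mul]
  exact add_le_add (mul_le_mul_of_nonneg_left h3 (mul_nonneg hC (Nat.cast_nonneg _)))
    (mul_le_mul_of_nonneg_left h3 (mul_nonneg hC (Nat.cast_nonneg _)))

theorem le_bnd_succ {d : ℕ} {C : ℝ} (hC : 0 ≤ C) {h : (ι → ℕ) → ℝ} (hh : StepBound d C h) (a : ι → ℕ) :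
    h a ≤ (|h 0| + C) * bnd (d + 1) (size a) := by
  have h1 := abs_sub_le_of_le hC hh (size a) 0 a (fun _ => Nat.zero_le _) (by simp [size])
  have h2 : (1 : ℝ) ≤ bnd (d + 1) (size a) := one_le_pow₀ (by simp)
  have h3 := mul_le_mul_of_nonneg_left (mul_bnd_le d (size a)) hC
  nlinarith [le_abs_self (h a - h 0), le_abs_self (h 0), mul_le_mul_of_nonneg_left h2 (abs_nonneg (h 0))]

end calculus

/-! ### Families of twists -/

/-- A family of invertible modules with multiplicative steps. -/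
structure TwistFam (X : Scheme.{u}) where
  /-- The index type. -/
  ι : Type
  [fin : Fintype ι]
  [dec : DecidableEq ι]
  /-- The twists. -/
  T : (ι → ℕ) → X.Modules
  /-- The steps. -/
  L : ι → X.Modules
  invT : ∀ a, PicF.IsInvertible (T a)
  invL : ∀ j, PicF.IsInvertible (L j)
  step : ∀ a j, Nonempty (T (a + Pi.single j 1) ≅ CohB1.tensorMod (T a) (L j))

attribute [instance] TwistFam.fin TwistFam.dec

variable (F : TwistFam X)

/-- `h^i` of a twist, as a real number. -/
noncomputable def hT (G : X.Modules) (i : ℕ) (a : F.ι → ℕ) : ℝ :=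
  (hdim k X (CohB1.tensorMod G (F.T a)) i : ℝ)

theorem hT_nonneg (G : X.Modules) (i : ℕ) (a : F.ι → ℕ) : 0 ≤ hT k F G i a :=
  Int.cast_nonneg (hdim_nonneg k _ i)

/-- All `h^i(G ⊗ T a)` are `O(bnd d)`. -/
def Bounded (d : ℕ) (G : X.Modules) : Prop :=
  ∀ i, ∃ C : ℝ, 0 ≤ C ∧ ∀ a, hT k F G i a ≤ C * bnd d (size a)

theorem hT_step (G : X.Modules) (i : ℕ) (a : F.ι → ℕ) (j : F.ι) :
    hT k F G i (a + Pi.single j 1) = hT k F (CohB1.tensorMod G (F.L j)) i a := by
  obtain ⟨e⟩ := F.step a j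
  obtain ⟨c⟩ := ProjTwist.nonempty_tensorMod_comm (F.T a) (F.L j)
  obtain ⟨s⟩ := nonempty_assoc G (F.invL j) (F.invT a)
  exact congrArg Int.cast (hdim_congr k ((ProjTwist.nonempty_tensorMod_iso (Iso.refl G) (e ≪≫ c)).some ≪≫ s) i)

theorem abs_hT_sub_of_mono {K G : X.Modules} (hK : Coh.IsCoh K) (hG : Coh.IsCoh G) (f : K ⟶ G) [Mono f]
    {d : ℕ} (hQ : Bounded k F d (cokernel f)) (i : ℕ) :
    ∃ C : ℝ, 0 ≤ C ∧ ∀ a, |hT k F K i a - hT k F G i a| ≤ C * bnd d (size a) := by
  haveI := isNoetherian_of_proper (X := X) k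
  have hQc : Coh.IsCoh (cokernel f) := QCohLib.isCoh_cokernel f hK.1 hG
  obtain ⟨C₁, hC₁, h₁⟩ := hQ i
  obtain ⟨C₀, hC₀, h₀⟩ : ∃ C : ℝ, 0 ≤ C ∧ ∀ a,
      ((hprev k (CohB1.tensorMod (cokernel f) (F.T a)) i : ℤ) : ℝ) ≤ C * bnd d (size a) := by
    cases i with
    | zero => exact ⟨0, le_rfl, fun a => by simp [hprev]⟩
    | succ i => exact hQ i
  refine ⟨C₀ + C₁, add_nonneg hC₀ hC₁, fun a => ?_⟩
  obtain ⟨e₁, e₂, -⟩ := hdim_exact k (S := tSC _ (F.invT a))
    (shortExact_tSC (CohFinite.shortExact_cokernel f) (F.invT a))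
    (isCoh_tensorMod hK (F.invT a)) (isCoh_tensorMod hG (F.invT a)) (isCoh_tensorMod hQc (F.invT a)) i
  have e₁' := (Int.cast_le (R := ℝ)).mpr e₁
  have e₂' := (Int.cast_le (R := ℝ)).mpr e₂
  push_cast at e₁' e₂'
  change hT k F G i a ≤ hT k F K i a + hT k F (cokernel f) i a at e₁'
  change hT k F K i a ≤ hT k F G i a + ((hprev k (CohB1.tensorMod (cokernel f) (F.T a)) i : ℤ) : ℝ) at e₂'
  have := bnd_nonneg d (size a)
  have n0 := h₀ a
  have n1 := h₁ a
  rw [abs_le]
  constructor <;> nlinarith [mul_nonneg hC₀ this, mul_nonneg hC₁ this]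

/-- The step bound from a roof. -/
theorem exists_stepBound {G : X.Modules} (hG : Coh.IsCoh G) {S : Set X} (hS : IsClosed S) (hSi : IsIrreducible S)
    {d : ℕ} (hSd : topologicalKrullDim S < ((d + 1 : ℕ) : WithBot ℕ∞)) (hsub : CohB1.support G ⊆ S) {x : X}
    (hx : x ∈ S) (hinj : ∀ U : X.Opens, x ∈ U → ∀ W : X.Opens,
      Function.Injective (res G (inf_le_left : W ⊓ U ≤ W)))
    (hlow : ∀ M : X.Modules, Coh.IsCoh M → topologicalKrullDim (CohB1.support M) < (d : WithBot ℕ∞) → Bounded k F d M)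
    (i : ℕ) : ∃ C : ℝ, 0 ≤ C ∧ StepBound d C (hT k F G i) := by
  haveI := isNoetherian_of_proper (X := X) k
  have main : ∀ j, ∃ C : ℝ, 0 ≤ C ∧ ∀ a, |hT k F G i (a + Pi.single j 1) - hT k F G i a| ≤ C * bnd d (size a) := by
    intro j
    obtain ⟨U, hU, ℓ, hℓ⟩ := exists_isBasis (F.invL j) x
    obtain ⟨K, f₁, f₂, hK, _, _, hd₁, hd₂⟩ := exists_roof_tensor hG (F.invL j) hℓ (hinj U hU)
    have hG2 := isCoh_tensorMod hG (F.invL j)
    have hdrop : ∀ {C : X.Modules}, Coh.IsCoh C → CohB1.support C ⊆ S →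
        Disjoint (CohB1.support C) U → topologicalKrullDim (CohB1.support C) < (d : WithBot ℕ∞) :=
      fun {C} hC hsub hdisj => dim_lt_of_ssubset (isClosed_support hC.2) hSi hS
        ⟨hsub, fun h => Set.disjoint_left.mp hdisj (h hx) hU⟩ hSd
    have hc₁ := QCohLib.isCoh_cokernel f₁ hK.1 hG
    have hc₂ := QCohLib.isCoh_cokernel f₂ hK.1 hG2
    obtain ⟨C₁, hC₁, h₁⟩ := abs_hT_sub_of_mono k F hK hG f₁
      (hlow _ hc₁ (hdrop hc₁ ((support_subset_of_epi (cokernel.π f₁)).trans hsub) hd₁)) i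
    obtain ⟨C₂, hC₂, h₂⟩ := abs_hT_sub_of_mono k F hK hG2 f₂
      (hlow _ hc₂ (hdrop hc₂ ((support_subset_of_epi (cokernel.π f₂)).trans
        ((HilbPoly.support_tensorMod G (F.invL j)).le.trans hsub)) hd₂)) i
    refine ⟨C₁ + C₂, add_nonneg hC₁ hC₂, fun a => ?_⟩
    have n1 := abs_le.mp (h₁ a)
    have n2 := abs_le.mp (h₂ a)
    rw [hT_step, abs_le]
    constructor <;> nlinarith [n1.1, n1.2, n2.1, n2.2]
  choose C hC h using main
  exact ⟨∑ j, C j, Finset.sum_nonneg fun j _ => hC j, fun a j => (h j a).trans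
    (mul_le_mul_of_nonneg_right (Finset.single_le_sum (fun j _ => hC j) (Finset.mem_univ j)) (bnd_nonneg _ _))⟩

/-- **The polynomial bound.** -/
theorem bounded_of_dim_lt : ∀ (d : ℕ) (G : X.Modules), Coh.IsCoh G →
    topologicalKrullDim (CohB1.support G) < (d : WithBot ℕ∞) → Bounded k F d G := by
  haveI := isNoetherian_of_proper (X := X) k
  intro d
  induction d with
  | zero =>
    intro G _ hd i
    have hz := isZero_of_support_empty (eq_empty_of_dim_lt_zero (by simpa using hd))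
    refine ⟨0, le_rfl, fun a => ?_⟩
    have : hdim k X (CohB1.tensorMod G (F.T a)) i = 0 := by
      refine hdim_of_isZero k (isZero_of_support_empty ?_) i
      rw [HilbPoly.support_tensorMod G (F.invT a), support_eq_empty_of_isZero hz]
    simp [hT, this]
  | succ d ih =>
    intro G hG hd
    refine devissage_ext (Bounded k F (d + 1))
      (fun M N ⟨e⟩ h i => ?_) (fun M hM i => ⟨0, le_rfl, fun a => ?_⟩) (X' := CohB1.support G) ?_ ?_ G hG subset_rfl
    · obtain ⟨C, hC, hh⟩ := h i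
      refine ⟨C, hC, fun a => le_of_eq_of_le (congrArg Int.cast ?_) (hh a)⟩
      exact (hdim_congr k (ProjTwist.nonempty_tensorMod_iso e (Iso.refl (F.T a))).some i).symm
    · have : hdim k X (CohB1.tensorMod M (F.T a)) i = 0 := by
        refine hdim_of_isZero k (isZero_of_support_empty ?_) i
        rw [HilbPoly.support_tensorMod M (F.invT a), support_eq_empty_of_isZero hM]
      simp [hT, this]
    · intro S hS h₁ h₂ h₃ _ b₁ b₃ i
      obtain ⟨C₁, hC₁, e₁⟩ := b₁ i
      obtain ⟨C₃, hC₃, e₃⟩ := b₃ i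
      refine ⟨C₁ + C₃, add_nonneg hC₁ hC₃, fun a => ?_⟩
      obtain ⟨e, -, -⟩ := hdim_exact k (S := tSC _ (F.invT a)) (shortExact_tSC hS (F.invT a))
        (isCoh_tensorMod h₁ (F.invT a)) (isCoh_tensorMod h₂ (F.invT a)) (isCoh_tensorMod h₃ (F.invT a)) i
      have e' := (Int.cast_le (R := ℝ)).mpr e
      push_cast at e'
      change hT k F S.X₂ i a ≤ hT k F S.X₁ i a + hT k F S.X₃ i a at e'
      rw [add_mul]
      exact e'.trans (add_le_add (e₁ a) (e₃ a))
    · intro Z v _ _ hZ I ι _ hI _ i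
      have hG' : Coh.IsCoh ((Scheme.Modules.pushforward v).obj I) := HilbPoly.isCoh_push v ι hI
      have hZi : IsIrreducible (Set.range v) := by
        rw [← Set.image_univ]
        exact (IrreducibleSpace.isIrreducible_univ Z).image v v.continuous.continuousOn
      obtain ⟨C, hC, h⟩ := exists_stepBound k F hG' v.isClosedEmbedding.isClosed_range hZi
        ((HilbPoly.dim_mono hZ).trans_lt hd) (support_pushforward_subset v I) (x := v (genericPoint Z)) ⟨_, rfl⟩
        (fun U hU => injective_res_push_ideal v ι hU) ih i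
      exact ⟨_, add_nonneg (abs_nonneg _) hC, fun a => le_bnd_succ hC h a⟩

/-- `h^i(G ⊗ T a) = O((1 + |a|)^d)`. -/
theorem exists_hT_le {G : X.Modules} (hG : Coh.IsCoh G) {d : ℕ}
    (hd : topologicalKrullDim (CohB1.support G) ≤ (d : WithBot ℕ∞)) (i : ℕ) :
    ∃ C : ℝ, 0 ≤ C ∧ ∀ a, hT k F G i a ≤ C * (1 + (size a : ℝ)) ^ d :=
  bounded_of_dim_lt k F (d + 1) G hG (hd.trans_lt (by exact_mod_cast Nat.lt_succ_self d)) i

/-- **The Lipschitz bound** on an integral scheme. -/
theorem exists_abs_sub_le [IsIntegral X] {n : ℕ} (hn : topologicalKrullDim X ≤ (n : WithBot ℕ∞)) (i : ℕ) :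
    ∃ C : ℝ, 0 ≤ C ∧ ∀ a b : F.ι → ℕ,
      |hT k F (Coh.structureModule X) i a - hT k F (Coh.structureModule X) i b| ≤
        C * (∑ j, (max (a j) (b j) - min (a j) (b j) : ℕ)) * bnd n (size a + size b) := by
  haveI := isNoetherian_of_proper (X := X) k
  have hinj : ∀ U : X.Opens, genericPoint X ∈ U → ∀ W : X.Opens,
      Function.Injective (res (Coh.structureModule X) (inf_le_left : W ⊓ U ≤ W)) := by
    intro U hU W
    show Function.Injective (X.presheaf.map (homOfLE (inf_le_left : W ⊓ U ≤ W)).op)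
    by_cases hW : (W : Set X).Nonempty
    · obtain ⟨y, hy⟩ := nonempty_preirreducible_inter W.2 U.2 hW ⟨_, hU⟩
      haveI : Nonempty W := ⟨⟨_, hW.choose_spec⟩⟩
      haveI : Nonempty (W ⊓ U : X.Opens) := ⟨⟨y, hy⟩⟩
      exact map_injective_of_isIntegral X _
    · intro a b _
      exact QCohLib.section_ext (show Γ(Coh.structureModule X, W) from a) b fun y hy => (hW ⟨y, hy⟩).elim
  obtain ⟨C, hC, h⟩ := exists_stepBound k F (isCoh_of_isInvertible (HilbPoly.isInvertible_structureModule X))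
    isClosed_univ (IrreducibleSpace.isIrreducible_univ X) (d := n)
    ((topologicalKrullDim_subspace_le X _).trans_lt (hn.trans_lt (by exact_mod_cast Nat.lt_succ_self n)))
    (Set.subset_univ _) (x := genericPoint X) trivial hinj (fun M hM hd => bounded_of_dim_lt k F n M hM hd) i
  exact ⟨C, hC, fun a b => abs_sub_le hC h a b⟩

end Groth.Agent.AsympCoh
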