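import Groth.Agent.AsympCoh.Bound
import Groth.Agent.HilbPoly.IntNum
import Groth.Agent.InvPow.Compose
import Groth.Agent.NegVanish.DualInverse
import Groth.Prelude.Def_W4c5asymptcohfnACF


/-!
# Twist families and limsup estimates for asymptotic cohomology
-/

universe u

open CategoryTheory CategoryTheory.Limits AlgebraicGeometry Opposite TopologicalSpace Filter

set_option autoImplicit false
set_option backward.isDefEq.respectTransparency false
set_option maxHeartbeats 1600000

namespace Groth.Agent.AsympCoh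

open InvBasic ProjUniv Groth.Agent.InvPow Groth.Agent.QCohLib Groth.Agent.HilbPoly Groth.Agent.CurveDeg Groth.Agent.CohFinite

variable {X : Scheme.{u}}

/-- The powers of one module. -/
noncomputable def powFam {L : X.Modules} (hL : PicF.IsInvertible L) : TwistFam X where
  ι := Unit
  T a := CohB1.tensorPow L (a ())
  L _ := L
  invT _ := isInvertible_tensorPow hL _
  invL _ := hL
  step a j := ⟨eqToIso (by simp [CohB1.tensorPow])⟩

/-- The twists `L^a ⊗ M^b`. -/
noncomputable def pairFam {L M : X.Modules} (hL : PicF.IsInvertible L) (hM : PicF.IsInvertible M) : TwistFam X where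
  ι := Bool
  T a := CohB1.tensorMod (CohB1.tensorPow L (a true)) (CohB1.tensorPow M (a false))
  L b := if b then L else M
  invT _ := isInvertible_tensorMod (isInvertible_tensorPow hL _) (isInvertible_tensorPow hM _)
  invL b := by split <;> assumption
  step a j := by
    have h1 := isInvertible_tensorPow hL (a true)
    have h2 := isInvertible_tensorPow hM (a false)
    cases j
    · obtain ⟨s⟩ := nonempty_assoc (CohB1.tensorPow L (a true)) h2 hM
      exact ⟨eqToIso (by simp [CohB1.tensorPow]) ≪≫ s⟩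
    · obtain ⟨s⟩ := nonempty_assoc (CohB1.tensorPow L (a true)) hL h2
      obtain ⟨s'⟩ := nonempty_assoc (CohB1.tensorPow L (a true)) h2 hL
      obtain ⟨c⟩ := ProjTwist.nonempty_tensorMod_comm L (CohB1.tensorPow M (a false))
      obtain ⟨d⟩ := ProjTwist.nonempty_tensorMod_iso (Iso.refl (CohB1.tensorPow L (a true))) c
      exact ⟨eqToIso (by simp [CohB1.tensorPow]) ≪≫ s.symm ≪≫ d ≪≫ s'⟩

/-- The twists `⊗ L_j^{a_j} ⊗ ⊗ M_j^{b_j}`. -/
noncomputable def zFam {r : ℕ} {L M : Fin r → X.Modules} (hL : ∀ j, PicF.IsInvertible (L j))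
    (hM : ∀ j, PicF.IsInvertible (M j)) : TwistFam X where
  ι := Fin r ⊕ Fin r
  T a := CohB1.tensorMod (Curv2.tensorPows (Coh.structureModule X) r L (a ∘ Sum.inl))
    (Curv2.tensorPows (Coh.structureModule X) r M (a ∘ Sum.inr))
  L := Sum.elim L M
  invT _ := isInvertible_tensorMod (isInvertible_tensorPows hL _) (isInvertible_tensorPows hM _)
  invL j := by cases j <;> simp [hL, hM]
  step a j := by
    have hA := isInvertible_tensorPows hL (a ∘ Sum.inl)
    have hB := isInvertible_tensorPows hM (a ∘ Sum.inr)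
    let A := Curv2.tensorPows (Coh.structureModule X) r L (a ∘ Sum.inl)
    let B := Curv2.tensorPows (Coh.structureModule X) r M (a ∘ Sum.inr)
    cases j with
    | inl i =>
      obtain ⟨e⟩ := nonempty_tensorPows_step hL (a ∘ Sum.inl) i
      have e1 : (a + Pi.single (Sum.inl i) 1) ∘ Sum.inl = Function.update (a ∘ Sum.inl) i ((a ∘ Sum.inl) i + 1) :=
        funext fun l => by by_cases h : l = i <;> simp [h, Pi.single_apply, Function.update]
      have e2 : (a + Pi.single (Sum.inl i) 1) ∘ Sum.inr = a ∘ Sum.inr := funext fun l => by simp [Pi.single_apply]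
      obtain ⟨s⟩ := nonempty_assoc A (hL i) hB
      obtain ⟨s'⟩ := nonempty_assoc A hB (hL i)
      obtain ⟨c⟩ := ProjTwist.nonempty_tensorMod_comm (L i) B
      obtain ⟨d⟩ := ProjTwist.nonempty_tensorMod_iso (Iso.refl A) c
      obtain ⟨d'⟩ := ProjTwist.nonempty_tensorMod_iso e (Iso.refl B)
      exact ⟨eqToIso (by rw [e1, e2]) ≪≫ d' ≪≫ s.symm ≪≫ d ≪≫ s'⟩
    | inr i =>
      obtain ⟨e⟩ := nonempty_tensorPows_step hM (a ∘ Sum.inr) i
      have e1 : (a + Pi.single (Sum.inr i) 1) ∘ Sum.inr = Function.update (a ∘ Sum.inr) i ((a ∘ Sum.inr) i + 1) :=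
        funext fun l => by by_cases h : l = i <;> simp [h, Pi.single_apply, Function.update]
      have e2 : (a + Pi.single (Sum.inr i) 1) ∘ Sum.inl = a ∘ Sum.inl := funext fun l => by simp [Pi.single_apply]
      obtain ⟨s⟩ := nonempty_assoc A hB (hM i)
      obtain ⟨d'⟩ := ProjTwist.nonempty_tensorMod_iso (Iso.refl A) e
      exact ⟨eqToIso (by rw [e1, e2]) ≪≫ d' ≪≫ s⟩

theorem nonempty_tensorPows_pow : ∀ {r : ℕ} {L : Fin r → X.Modules}, (∀ i, PicF.IsInvertible (L i)) →
    ∀ (n : Fin r → ℕ) (m : ℕ), Nonempty (CohB1.tensorPow (Curv2.tensorPows (Coh.structureModule X) r L n) m ≅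
      Curv2.tensorPows (Coh.structureModule X) r L (fun j => n j * m))
  | 0, L, _, n, m => by
    induction m with
    | zero => exact ⟨Iso.refl _⟩
    | succ m ih =>
      obtain ⟨e⟩ := ih
      exact ⟨SecTwist.unitorR _ ≪≫ e⟩
  | r + 1, L, hL, n, m => by
    obtain ⟨e⟩ := nonempty_tensorPows_pow (fun i => hL i.castSucc) (fun i => n i.castSucc) m
    obtain ⟨t⟩ := nonempty_tensor_pow_iso (isInvertible_tensorPows (fun i => hL i.castSucc) fun i => n i.castSucc)
      (isInvertible_tensorPow (hL (Fin.last r)) (n (Fin.last r))) m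
    obtain ⟨p⟩ := nonempty_pow_mul_iso (hL (Fin.last r)) (n (Fin.last r)) m
    exact ⟨t ≪≫ (ProjTwist.nonempty_tensorMod_iso e p).some⟩

theorem nonempty_ztwist_pow {r : ℕ} {L M : Fin r → X.Modules} (hL : ∀ j, PicF.IsInvertible (L j))
    (hM : ∀ j, PicF.IsInvertible (M j)) (a : Fin r → ℤ) (m : ℕ) :
    Nonempty (CohB1.tensorPow (W4c5asymptcohfn.ztwist X L M a) m ≅
      (zFam hL hM).T (Sum.elim (fun j => (a j).toNat * m) (fun j => (-(a j)).toNat * m))) := by
  obtain ⟨e₁⟩ := nonempty_multiTwist hL fun j => (a j).toNat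
  obtain ⟨e₂⟩ := nonempty_multiTwist hM fun j => (-(a j)).toNat
  obtain ⟨c⟩ := HilbPoly.nonempty_tensorPow_congr (ProjTwist.nonempty_tensorMod_iso e₁ e₂).some m
  obtain ⟨t⟩ := nonempty_tensor_pow_iso (isInvertible_tensorPows hL fun j => (a j).toNat)
    (isInvertible_tensorPows hM fun j => (-(a j)).toNat) m
  obtain ⟨p⟩ := nonempty_tensorPows_pow hL (fun j => (a j).toNat) m
  obtain ⟨q⟩ := nonempty_tensorPows_pow hM (fun j => (-(a j)).toNat) m
  exact ⟨c ≪≫ t ≪≫ (ProjTwist.nonempty_tensorMod_iso p q).some⟩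

variable (k : Type u) [Field k] [X.Over (Spec (CommRingCat.of k))] [IsProper (X ↘ Spec (CommRingCat.of k))]

theorem hT_unit (F : TwistFam X) {M : X.Modules} (a : F.ι → ℕ) (e : M ≅ F.T a) (i : ℕ) :
    hT k F (Coh.structureModule X) i a = (Module.finrank k (Coh.HH X M i) : ℝ) := by
  obtain ⟨c⟩ := ProjTwist.nonempty_tensorMod_comm (Coh.structureModule X) (F.T a)
  unfold hT
  rw [hdim_congr k (c ≪≫ SecTwist.unitorR _ ≪≫ e.symm) i]
  exact Int.cast_natCast _

theorem support_dim_le {n : ℕ} (hn : topologicalKrullDim X = (n : WithBot ℕ∞)) (G : X.Modules) :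
    topologicalKrullDim (CohB1.support G) ≤ (n : WithBot ℕ∞) :=
  (topologicalKrullDim_subspace_le X _).trans hn.le

theorem abs_limsup_sub_le {u v : ℕ → ℝ} {K B : ℝ} (hu : ∀ᶠ m in atTop, |u m| ≤ B) (hv : ∀ᶠ m in atTop, |v m| ≤ B)
    (h : ∀ᶠ m in atTop, |u m - v m| ≤ K) : |limsup u atTop - limsup v atTop| ≤ K := by
  have key : ∀ {u v : ℕ → ℝ}, (∀ᶠ m in atTop, |u m| ≤ B) → (∀ᶠ m in atTop, |v m| ≤ B) →
      (∀ᶠ m in atTop, |u m - v m| ≤ K) → limsup u atTop ≤ limsup v atTop + K := by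
    intro u v hu hv h
    have hvb : IsBoundedUnder (· ≤ ·) atTop v := isBoundedUnder_of_eventually_le (hv.mono fun m h => (abs_le.mp h).2)
    have hvc : IsCoboundedUnder (· ≤ ·) atTop v :=
      (isBoundedUnder_of_eventually_ge (hv.mono fun m h => (abs_le.mp h).1)).isCoboundedUnder_le
    rw [← limsup_add_const atTop v K hvb hvc]
    refine limsup_le_limsup (h.mono fun m h => by linarith [(abs_le.mp h).2]) ?_ ?_
    · exact (isBoundedUnder_of_eventually_ge (hu.mono fun m h => (abs_le.mp h).1)).isCoboundedUnder_le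
    · exact isBoundedUnder_of_eventually_le (a := B + K) (hv.mono fun m h => by linarith [(abs_le.mp h).2])
  have h' : ∀ᶠ m in atTop, |v m - u m| ≤ K := h.mono fun m h => by rwa [abs_sub_comm]
  rw [abs_le]
  constructor <;> linarith [key hu hv h, key hv hu h']

theorem limsup_eq_of_tendsto_sub {u v : ℕ → ℝ} {B : ℝ} (hu : ∀ᶠ m in atTop, |u m| ≤ B) (hv : ∀ᶠ m in atTop, |v m| ≤ B)
    (h : Tendsto (fun m => u m - v m) atTop (nhds 0)) : limsup u atTop = limsup v atTop := by
  refine eq_of_abs_sub_eq_zero (le_antisymm (le_of_forall_pos_le_add fun ε hε => ?_) (abs_nonneg _))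
  rw [zero_add]
  exact abs_limsup_sub_le hu hv ((Metric.tendsto_nhds.mp h ε hε).mono fun m hm => by
    rw [Real.dist_eq, sub_zero] at hm
    exact hm.le)

/-- `C (1 + s m)^d / m^d ≤ C (1 + s)^d`. -/
theorem pow_div_le {d : ℕ} (s : ℝ) (hs : 0 ≤ s) {m : ℕ} (hm : 1 ≤ m) :
    (1 + s * m) ^ d / (m : ℝ) ^ d ≤ (1 + s) ^ d := by
  rw [div_le_iff₀ (by positivity), ← mul_pow]
  refine pow_le_pow_left₀ (by positivity) ?_ d
  have : (1 : ℝ) ≤ m := by exact_mod_cast hm
  nlinarith

theorem mul_bnd_div_le {n : ℕ} (t : ℝ) (ht : 0 ≤ t) {s : ℕ} {S : ℝ} (hS : 0 ≤ S) {m : ℕ} (hm : 1 ≤ m)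
    (hs : (s : ℝ) ≤ S * m) : t * m * bnd n s / (m : ℝ) ^ n ≤ t * bnd n 0 * (1 + S) ^ (n - 1) := by
  cases n with
  | zero => simp [bnd]
  | succ d =>
    simp only [bnd, Nat.cast_zero, add_zero, one_pow, mul_one, Nat.add_sub_cancel]
    have hm' : (1 : ℝ) ≤ m := by exact_mod_cast hm
    have h1 : (1 + (s : ℝ)) ^ d ≤ (1 + S) ^ d * (m : ℝ) ^ d := by
      rw [← mul_pow]
      exact pow_le_pow_left₀ (by positivity) (by nlinarith) d
    rw [div_le_iff₀ (by positivity), pow_succ (m : ℝ)]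
    calc t * m * (1 + (s : ℝ)) ^ d ≤ t * m * ((1 + S) ^ d * (m : ℝ) ^ d) :=
          mul_le_mul_of_nonneg_left h1 (by positivity)
      _ = _ := by ring

end Groth.Agent.AsympCoh
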