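import Groth.Agent.AsympCoh.Fam

/-!
# The normalised sequences of asymptotic cohomology
-/

universe u

open CategoryTheory CategoryTheory.Limits AlgebraicGeometry Opposite TopologicalSpace Filter

set_option autoImplicit false
set_option linter.style.haveILetI false
set_option backward.isDefEq.respectTransparency false
set_option maxHeartbeats 1600000

namespace Groth.Agent.AsympCoh

open InvBasic ProjUniv Groth.Agent.InvPow Groth.Agent.QCohLib Groth.Agent.HilbPoly Groth.Agent.CurveDeg Groth.Agent.CohFinite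

variable {X : Scheme.{u}} (k : Type u) [Field k] [X.Over (Spec (CommRingCat.of k))]
  [IsProper (X ↘ Spec (CommRingCat.of k))]

/-- `dim H^i(M_m) · n! / m^n`. -/
noncomputable def seq (n i : ℕ) (M : ℕ → X.Modules) (m : ℕ) : ℝ :=
  (Module.finrank k (Coh.HH X (M m) i) : ℝ) * (n.factorial : ℝ) / (m : ℝ) ^ n

theorem cohSeq_eq (n i : ℕ) (F L : X.Modules) :
    W4c5asymptcohfn.cohSeq k X n i F L = seq k n i fun m => CohB1.tensorMod F (CohB1.tensorPow L m) := rfl

theorem hhat_eq (n i : ℕ) (L : X.Modules) :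
    W4c5asymptcohfn.hhat k X n i L = limsup (seq k n i fun m => CohB1.tensorPow L m) atTop := rfl

theorem seq_nonneg (n i : ℕ) (M : ℕ → X.Modules) (m : ℕ) : 0 ≤ seq k n i M m := by
  unfold seq; positivity

theorem finrank_eq_hT (F : TwistFam X) {G M : X.Modules} (a : F.ι → ℕ) (e : M ≅ CohB1.tensorMod G (F.T a)) (i : ℕ) :
    (Module.finrank k (Coh.HH X M i) : ℝ) = hT k F G i a := by
  unfold hT
  rw [← hdim_congr k e i]
  exact (Int.cast_natCast _).symm

theorem seq_le (F : TwistFam X) {G : X.Modules} (hG : Coh.IsCoh G) {n : ℕ}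
    (hd : topologicalKrullDim (CohB1.support G) ≤ (n : WithBot ℕ∞)) (i : ℕ) :
    ∃ C : ℝ, 0 ≤ C ∧ ∀ (M : ℕ → X.Modules) (a : ℕ → F.ι → ℕ), (∀ m, Nonempty (M m ≅ CohB1.tensorMod G (F.T (a m)))) →
      ∀ S : ℝ, 0 ≤ S → ∀ m, 1 ≤ m → (size (a m) : ℝ) ≤ S * m → seq k n i M m ≤ C * (1 + S) ^ n := by
  obtain ⟨C, hC, h⟩ := exists_hT_le k F hG hd i
  refine ⟨C * n.factorial, by positivity, fun M a hM S hS m hm hs => ?_⟩
  obtain ⟨e⟩ := hM m
  unfold seq
  rw [finrank_eq_hT k F _ e i]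
  calc hT k F G i (a m) * (n.factorial : ℝ) / (m : ℝ) ^ n
      ≤ C * (1 + S * m) ^ n * (n.factorial : ℝ) / (m : ℝ) ^ n := by
        refine div_le_div_of_nonneg_right (mul_le_mul_of_nonneg_right ((h _).trans ?_) (by positivity)) (by positivity)
        exact mul_le_mul_of_nonneg_left (pow_le_pow_left₀ (by positivity) (by linarith) n) hC
    _ = C * n.factorial * ((1 + S * m) ^ n / (m : ℝ) ^ n) := by ring
    _ ≤ _ := mul_le_mul_of_nonneg_left (pow_div_le S hS hm) (by positivity)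

theorem eventually_abs_le (F : TwistFam X) {G : X.Modules} (hG : Coh.IsCoh G) {n : ℕ}
    (hd : topologicalKrullDim (CohB1.support G) ≤ (n : WithBot ℕ∞)) (i : ℕ) {M : ℕ → X.Modules} {a : ℕ → F.ι → ℕ}
    (hM : ∀ m, Nonempty (M m ≅ CohB1.tensorMod G (F.T (a m)))) {S : ℝ} (hS : 0 ≤ S)
    (hs : ∀ m, (size (a m) : ℝ) ≤ S * m) : ∃ B : ℝ, ∀ᶠ m in atTop, |seq k n i M m| ≤ B := by
  obtain ⟨C, -, h⟩ := seq_le k F hG hd i
  exact ⟨C * (1 + S) ^ n, eventually_atTop.mpr ⟨1, fun m hm => by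
    rw [abs_of_nonneg (seq_nonneg k n i M m)]
    exact h M a hM S hS m hm (hs m)⟩⟩

theorem tendsto_bnd_div (n : ℕ) (C : ℝ) :
    Tendsto (fun m : ℕ => C * bnd n m * (n.factorial : ℝ) / (m : ℝ) ^ n) atTop (nhds 0) := by
  cases n with
  | zero => simp [bnd]
  | succ d =>
    refine squeeze_zero_norm' (a := fun m : ℕ => |C| * (2 ^ d * ((d + 1).factorial : ℝ)) / (m : ℝ))
      (eventually_atTop.mpr ⟨1, fun m hm => ?_⟩) (tendsto_const_div_atTop_nhds_zero_nat _)
    have hm' : (1 : ℝ) ≤ m := by exact_mod_cast hm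
    simp only [bnd, Real.norm_eq_abs]
    rw [abs_div, abs_mul, abs_mul, abs_of_nonneg (pow_nonneg (by positivity : (0:ℝ) ≤ (m : ℝ)) _), Nat.abs_cast,
      abs_of_nonneg (pow_nonneg (by positivity : (0:ℝ) ≤ 1 + (m : ℝ)) _), div_le_div_iff₀ (by positivity) (by positivity)]
    have h1 : (1 + (m : ℝ)) ^ d ≤ 2 ^ d * (m : ℝ) ^ d := by
      rw [← mul_pow]
      exact pow_le_pow_left₀ (by positivity) (by linarith) d
    have h2 := mul_le_mul_of_nonneg_left h1 (show (0 : ℝ) ≤ |C| * ((d + 1).factorial : ℝ) * m by positivity)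
    calc _ = |C| * ((d + 1).factorial : ℝ) * m * (1 + (m : ℝ)) ^ d := by ring
      _ ≤ _ := h2.trans (le_of_eq (by ring))

/-- Two coherent modules whose cohomology differs by that of a small module. -/
theorem hhatF_eq_of_abs_sub {n : ℕ} (hn : topologicalKrullDim X = (n : WithBot ℕ∞)) {G G' : X.Modules}
    (hG : Coh.IsCoh G) (hG' : Coh.IsCoh G') {L : X.Modules} (hL : PicF.IsInvertible L) (i : ℕ) {C : ℝ}
    (h : ∀ a : (powFam hL).ι → ℕ, |hT k (powFam hL) G i a - hT k (powFam hL) G' i a| ≤ C * bnd n (size a)) :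
    W4c5asymptcohfn.hhatF k X n i G L = W4c5asymptcohfn.hhatF k X n i G' L := by
  have iso : ∀ (H : X.Modules) (m : ℕ),
      Nonempty (CohB1.tensorMod H (CohB1.tensorPow L m) ≅ CohB1.tensorMod H ((powFam hL).T fun _ => m)) :=
    fun H m => ⟨Iso.refl _⟩
  have hs : ∀ m : ℕ, (size (fun _ : Unit => m) : ℝ) ≤ (1 : ℝ) * m := fun m => by simp [size]
  obtain ⟨B, hB⟩ := eventually_abs_le k (powFam hL) hG (support_dim_le hn G) i (iso G) zero_le_one hs
  obtain ⟨B', hB'⟩ := eventually_abs_le k (powFam hL) hG' (support_dim_le hn G') i (iso G') zero_le_one hs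
  refine limsup_eq_of_tendsto_sub (B := max B B') (hB.mono fun m h => h.trans (le_max_left _ _))
    (hB'.mono fun m h => h.trans (le_max_right _ _)) (squeeze_zero_norm' ?_ (tendsto_bnd_div n C))
  refine Eventually.of_forall fun m => ?_
  have hm := h fun _ => m
  have hsz : size (fun _ : Unit => m) = m := by simp [size]
  rw [show size (fun _ : (powFam hL).ι => m) = m from hsz] at hm
  change ‖seq k n i (fun m => CohB1.tensorMod G (CohB1.tensorPow L m)) m -
    seq k n i (fun m => CohB1.tensorMod G' (CohB1.tensorPow L m)) m‖ ≤ _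
  unfold seq
  rw [finrank_eq_hT k (powFam hL) (fun _ => m) (iso G m).some i,
    finrank_eq_hT k (powFam hL) (fun _ => m) (iso G' m).some i, Real.norm_eq_abs, ← sub_div, ← sub_mul, abs_div, abs_mul,
    Nat.abs_cast, abs_of_nonneg (show (0 : ℝ) ≤ (m : ℝ) ^ n by positivity)]
  exact div_le_div_of_nonneg_right (mul_le_mul_of_nonneg_right hm (Nat.cast_nonneg _)) (by positivity)

theorem exists_abs_sub_of_small {n : ℕ} (F : TwistFam X) {S : ShortComplex X.Modules} (hS : S.ShortExact)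
    (h₁ : Coh.IsCoh S.X₁) (h₂ : Coh.IsCoh S.X₂) (h₃ : Coh.IsCoh S.X₃) (i : ℕ) :
    (topologicalKrullDim (CohB1.support S.X₁) < (n : WithBot ℕ∞) →
      ∃ C : ℝ, ∀ a, |hT k F S.X₂ i a - hT k F S.X₃ i a| ≤ C * bnd n (size a)) ∧
    (topologicalKrullDim (CohB1.support S.X₃) < (n : WithBot ℕ∞) →
      ∃ C : ℝ, ∀ a, |hT k F S.X₁ i a - hT k F S.X₂ i a| ≤ C * bnd n (size a)) := by
  haveI := isNoetherian_of_proper (X := X) k
  have key := fun a => hdim_exact k (S := tSC _ (F.invT a)) (shortExact_tSC hS (F.invT a))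
    (isCoh_tensorMod h₁ (F.invT a)) (isCoh_tensorMod h₂ (F.invT a)) (isCoh_tensorMod h₃ (F.invT a)) i
  constructor
  · intro hd
    obtain ⟨C₁, hC₁, b₁⟩ := bounded_of_dim_lt k F n _ h₁ hd i
    obtain ⟨C₂, hC₂, b₂⟩ := bounded_of_dim_lt k F n _ h₁ hd (i + 1)
    refine ⟨C₁ + C₂, fun a => ?_⟩
    obtain ⟨e₁, -, e₃⟩ := key a
    have e₁' := (Int.cast_le (R := ℝ)).mpr e₁
    have e₃' := (Int.cast_le (R := ℝ)).mpr e₃
    push_cast at e₁' e₃'
    change hT k F S.X₂ i a ≤ hT k F S.X₁ i a + hT k F S.X₃ i a at e₁'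
    change hT k F S.X₃ i a ≤ hT k F S.X₂ i a + hT k F S.X₁ (i + 1) a at e₃'
    have := bnd_nonneg n (size a)
    have n1 := b₁ a
    have n2 := b₂ a
    rw [abs_le]
    constructor <;> nlinarith [mul_nonneg hC₁ this, mul_nonneg hC₂ this]
  · intro hd
    obtain ⟨C₁, hC₁, b₁⟩ := bounded_of_dim_lt k F n _ h₃ hd i
    obtain ⟨C₀, hC₀, b₀⟩ : ∃ C : ℝ, 0 ≤ C ∧ ∀ a,
        ((hprev k (CohB1.tensorMod S.X₃ (F.T a)) i : ℤ) : ℝ) ≤ C * bnd n (size a) := by
      cases i with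
      | zero => exact ⟨0, le_rfl, fun a => by simp [hprev]⟩
      | succ i => exact bounded_of_dim_lt k F n _ h₃ hd i
    refine ⟨C₁ + C₀, fun a => ?_⟩
    obtain ⟨e₁, e₂, -⟩ := key a
    have e₁' := (Int.cast_le (R := ℝ)).mpr e₁
    have e₂' := (Int.cast_le (R := ℝ)).mpr e₂
    push_cast at e₁' e₂'
    change hT k F S.X₂ i a ≤ hT k F S.X₁ i a + hT k F S.X₃ i a at e₁'
    change hT k F S.X₁ i a ≤ hT k F S.X₂ i a + ((hprev k (CohB1.tensorMod S.X₃ (F.T a)) i : ℤ) : ℝ) at e₂'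
    have := bnd_nonneg n (size a)
    have n1 := b₁ a
    have n0 := b₀ a
    rw [abs_le]
    constructor <;> nlinarith [mul_nonneg hC₁ this, mul_nonneg hC₀ this]

end Groth.Agent.AsympCoh
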